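import Groth.Agent.DerExistLib.Step
import Groth.Agent.J2CompleteLib.Local

/-! Derivations separating non-`p`-th powers over complete Noetherian local rings. -/

set_option autoImplicit false
set_option backward.isDefEq.respectTransparency false
set_option maxHeartbeats 1000000

noncomputable section

namespace Groth.Agent.DerExistLib

universe u

open Groth.Agent.J2CompleteLib IsLocalRing
open scoped IntermediateField

local instance {σ k : Type*} [CommRing k] [IsDomain k] : IsDomain (MvPowerSeries σ k) :=
  NoZeroDivisors.to_isDomain _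

variable {p : ℕ} [Fact p.Prime]

theorem adjoin_gen_eq_top {K L : Type u} [Field K] [Field L] [Algebra K L] (θ : L) :
    K⟮IntermediateField.AdjoinSimple.gen K θ⟯ = ⊤ := by
  refine IntermediateField.map_injective (K⟮θ⟯.val) ?_
  rw [IntermediateField.adjoin_map, ← AlgHom.fieldRange_eq_map, IntermediateField.fieldRange_val,
    Set.image_singleton]
  rfl

theorem exists_sep_integral :
    ∀ (n : ℕ) (K L : Type u) [Field K] [Field L] [Algebra K L] [CharP K p] (D : Subring K), IsFrac D →
      Sep p D → ∀ θ : L, K⟮θ⟯ = ⊤ → IsIntegral K θ → (minpoly K θ).natDegree ≤ n →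
      ∃ D' : Subring L, IsFrac D' ∧ Sep p D' ∧ D' ≤ adjoinElt D θ ∧ D.map (algebraMap K L) ≤ D' := by
  intro n
  induction n using Nat.strong_induction_on with
  | _ n ih =>
    intro K L _ _ _ _ D hD hsep θ hθ hint hn
    haveI : CharP L p := charP_of_injective_algebraMap (algebraMap K L).injective p
    have hθ' : Algebra.adjoin K {θ} = ⊤ := by
      rw [← IntermediateField.adjoin_simple_toSubalgebra_of_isAlgebraic hint.isAlgebraic, hθ,
        IntermediateField.top_toSubalgebra]
    let e : K⟮θ⟯ ≃ₐ[K] L := (IntermediateField.equivOfEq hθ).trans IntermediateField.topEquiv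
    haveI : FiniteDimensional K L := by
      haveI := IntermediateField.adjoin.finiteDimensional hint
      exact Module.Finite.equiv e.toLinearEquiv
    rcases Polynomial.separable_or p (minpoly.irreducible hint) with hs | ⟨hns, g, hg, hexp⟩
    · haveI : Algebra.IsSeparable K L := by
        haveI := (IntermediateField.isSeparable_adjoin_simple_iff_isSeparable K L).2 (show IsSeparable K θ from hs)
        exact AlgEquiv.Algebra.isSeparable e
      exact ⟨_, isFrac_adjoinElt hD hθ', sep_separable p hD hsep hθ', le_rfl, fun w hw => by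
        obtain ⟨c, hc, rfl⟩ := hw
        exact map_mem_adjoinElt hc θ⟩
    · have hp : p.Prime := Fact.out
      let E := K⟮θ ^ p⟯
      haveI : CharP E p := charP_of_injective_algebraMap (algebraMap K E).injective p
      let θ' : E := IntermediateField.AdjoinSimple.gen K (θ ^ p)
      have hint' : IsIntegral K θ' := Algebra.IsIntegral.isIntegral θ'
      have hgθ : Polynomial.aeval (θ ^ p) g = 0 := by
        rw [← Polynomial.expand_aeval, hexp, minpoly.aeval]
      have hdeg : (minpoly K θ').natDegree < (minpoly K θ).natDegree := by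
        rw [IntermediateField.minpoly_gen, ← hexp, Polynomial.natDegree_expand]
        refine lt_of_le_of_lt (Polynomial.natDegree_le_of_dvd (minpoly.dvd K _ hgθ) hg.ne_zero) ?_
        exact lt_mul_of_one_lt_right hg.natDegree_pos hp.one_lt
      obtain ⟨D₁, hD₁, hsep₁, hle, hge⟩ := ih _ (lt_of_lt_of_le hdeg hn) K E D hD hsep θ' (adjoin_gen_eq_top _)
        hint' le_rfl
      have htop : E⟮θ⟯ = ⊤ := by
        refine IntermediateField.restrictScalars_injective K ?_
        rw [IntermediateField.restrictScalars_top, IntermediateField.adjoin_adjoin_left, eq_top_iff, ← hθ]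
        exact IntermediateField.adjoin.mono _ _ _ Set.subset_union_right
      have hintE : IsIntegral E θ := hint.tower_top
      let pb : PowerBasis E L := (IntermediateField.adjoin.powerBasis hintE).map
        ((IntermediateField.equivOfEq htop).trans IntermediateField.topEquiv)
      have hgen : pb.gen = θ := rfl
      have hap : ∀ b : E, b ^ p ≠ θ' := by
        intro b hb
        haveI : ExpChar L p := ExpChar.prime hp
        have hbθ : (b : L) = θ := (frobenius L p).injective (by
          simp only [frobenius_def]
          exact (congrArg Subtype.val hb).trans rfl)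
        have hE : E = ⊤ := by
          rw [eq_top_iff, ← hθ, IntermediateField.adjoin_simple_le_iff, ← hbθ]
          exact b.2
        have h1 : (minpoly K θ').natDegree = (minpoly K θ).natDegree := by
          rw [IntermediateField.minpoly_gen, ← IntermediateField.adjoin.finrank hint,
            ← IntermediateField.adjoin.finrank (hint.pow p)]
          show Module.finrank K E = _
          rw [hE, hθ]
        omega
      have hmin : minpoly E pb.gen = Polynomial.X ^ p - Polynomial.C θ' := by
        rw [hgen]
        refine (minpoly.eq_of_irreducible_of_monic (X_pow_sub_C_irreducible_of_prime hp hap) ?_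
          (Polynomial.monic_X_pow_sub_C _ hp.ne_zero)).symm
        rw [map_sub, map_pow, Polynomial.aeval_X, Polynomial.aeval_C, sub_eq_zero]
        rfl
      refine ⟨adjoinElt D₁ pb.gen, isFrac_adjoinElt hD₁ pb.adjoin_gen_eq_top,
        sep_insep p hD₁ hsep₁ pb hmin hap, ?_, fun w hw => ?_⟩
      swap
      · obtain ⟨c, hc, rfl⟩ := hw
        rw [IsScalarTower.algebraMap_apply K E L]
        exact map_mem_adjoinElt (hge ⟨c, hc, rfl⟩) pb.gen
      rw [hgen]
      refine Subring.closure_le.2 (Set.insert_subset (mem_adjoinElt D θ) ?_)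
      rintro _ ⟨d, hd, rfl⟩
      have hd' := hle hd
      clear hd
      induction hd' using Subring.closure_induction with
      | mem w hw =>
        rcases hw with rfl | ⟨c, hc, rfl⟩
        · exact pow_mem (mem_adjoinElt D θ) p
        · rw [← IsScalarTower.algebraMap_apply]
          exact map_mem_adjoinElt hc θ
      | zero => simp [zero_mem]
      | one => simp [one_mem]
      | add x y _ _ hx hy => rw [map_add]; exact add_mem hx hy
      | neg x _ hx => rw [map_neg]; exact neg_mem hx
      | mul x y _ _ hx hy => rw [map_mul]; exact mul_mem hx hy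

theorem exists_sep_simple (K L : Type u) [Field K] [Field L] [Algebra K L] [CharP K p] (D : Subring K)
    (hD : IsFrac D) (hsep : Sep p D) (θ : L) (hθ : K⟮θ⟯ = ⊤) :
    ∃ D' : Subring L, IsFrac D' ∧ Sep p D' ∧ D' ≤ adjoinElt D θ ∧ D.map (algebraMap K L) ≤ D' := by
  by_cases h : IsAlgebraic K θ
  · exact exists_sep_integral _ K L D hD hsep θ hθ h.isIntegral le_rfl
  · exact ⟨_, isFrac_adjoinElt' hD hθ, sep_transcendental p hD hsep hθ h, le_rfl, fun w hw => by
      obtain ⟨c, hc, rfl⟩ := hw
      exact map_mem_adjoinElt hc θ⟩

theorem exists_sep_finset {L : Type u} [Field L] (s : Finset L) :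
    ∀ (K : Type u) [Field K] [Algebra K L] [CharP K p] (D : Subring K), IsFrac D → Sep p D →
      IntermediateField.adjoin K (s : Set L) = ⊤ →
      ∃ D' : Subring L, IsFrac D' ∧ Sep p D' ∧
        D' ≤ Subring.closure ((s : Set L) ∪ algebraMap K L '' (D : Set K)) ∧
        D.map (algebraMap K L) ≤ D' := by
  classical
  induction s using Finset.induction with
  | empty =>
    intro K _ _ _ D hD hsep hs
    obtain ⟨D', h1, h2, h3, h4⟩ := exists_sep_simple K L D hD hsep 0 (by
      rw [eq_top_iff, ← hs, Finset.coe_empty]
      exact IntermediateField.adjoin.mono _ _ _ (Set.empty_subset _))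
    refine ⟨D', h1, h2, h3.trans (Subring.closure_le.2 (Set.insert_subset (zero_mem _) ?_)), h4⟩
    exact fun w hw => Subring.subset_closure (Or.inr hw)
  | insert x s _ ih =>
    intro K _ _ _ D hD hsep hs
    let E := K⟮x⟯
    haveI : CharP E p := charP_of_injective_algebraMap (algebraMap K E).injective p
    obtain ⟨D₁, hD₁, hsep₁, hle, hge⟩ :=
      exists_sep_simple K E D hD hsep (IntermediateField.AdjoinSimple.gen K x) (adjoin_gen_eq_top x)
    obtain ⟨D', h1, h2, h3, h4⟩ := ih E D₁ hD₁ hsep₁ (by
      refine IntermediateField.restrictScalars_injective K ?_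
      rw [IntermediateField.restrictScalars_top, IntermediateField.adjoin_adjoin_left, ← hs,
        Finset.coe_insert, Set.singleton_union])
    refine ⟨D', h1, h2, h3.trans (Subring.closure_le.2 (Set.union_subset ?_ ?_)), fun w hw => ?_⟩
    rotate_right
    · obtain ⟨c, hc, rfl⟩ := hw
      rw [IsScalarTower.algebraMap_apply K E L]
      exact h4 ⟨_, hge ⟨c, hc, rfl⟩, rfl⟩
    · exact fun w hw => Subring.subset_closure (Or.inl (Finset.mem_insert_of_mem hw))
    · rintro _ ⟨d, hd, rfl⟩
      have hd' := hle hd
      clear hd
      induction hd' using Subring.closure_induction with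
      | mem w hw =>
        rcases hw with rfl | ⟨c, hc, rfl⟩
        · exact Subring.subset_closure (Or.inl (Finset.mem_insert_self x s))
        · rw [← IsScalarTower.algebraMap_apply]
          exact Subring.subset_closure (Or.inr ⟨c, hc, rfl⟩)
      | zero => simp [zero_mem]
      | one => simp [one_mem]
      | add x y _ _ hx hy => rw [map_add]; exact add_mem hx hy
      | neg x _ hx => rw [map_neg]; exact neg_mem hx
      | mul x y _ _ hx hy => rw [map_mul]; exact mul_mem hx hy

/-- The descent to a finitely generated domain over a base with separating derivations. -/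
theorem exists_derivation_of_base {P B : Type u} [CommRing P] [IsDomain P] [CommRing B] [IsDomain B]
    [Algebra P B] [Algebra.FiniteType P B] (hinj : Function.Injective (algebraMap P B))
    (K : Type u) [Field K] [Algebra P K] [IsFractionRing P K] [CharP K p]
    (hsep : Sep p (algebraMap P K).range)
    (L : Type u) [Field L] [Algebra B L] [IsFractionRing B L] {f : B}
    (hf : ∀ x : L, x ^ p ≠ algebraMap B L f) :
    ∃ D : Derivation ℤ B B, D f ≠ 0 := by
  classical
  letI : Algebra P L := ((algebraMap B L).comp (algebraMap P B)).toAlgebra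
  haveI : IsScalarTower P B L := IsScalarTower.of_algebraMap_eq fun _ => rfl
  have hinjL : Function.Injective (algebraMap P L) := (IsFractionRing.injective B L).comp hinj
  letI : Algebra K L := (IsFractionRing.lift hinjL).toAlgebra
  haveI : IsScalarTower P K L :=
    IsScalarTower.of_algebraMap_eq fun r => (IsFractionRing.lift_algebraMap hinjL r).symm
  haveI : CharP L p := charP_of_injective_algebraMap (algebraMap K L).injective p
  have hfrac : IsFrac (algebraMap P K).range := fun z => by
    obtain ⟨a, b, hb, rfl⟩ := IsFractionRing.div_surjective (A := P) z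
    have hb0 : algebraMap P K b ≠ 0 := IsFractionRing.to_map_ne_zero_of_mem_nonZeroDivisors hb
    exact ⟨_, ⟨a, rfl⟩, _, ⟨b, rfl⟩, hb0, div_mul_cancel₀ _ hb0⟩
  obtain ⟨t, ht⟩ := (inferInstance : Algebra.FiniteType P B).out
  let s : Finset L := t.image (algebraMap B L)
  let B₀ : Subring L := (algebraMap B L).range
  have hB : B₀ ≤ Subring.closure ((s : Set L) ∪ algebraMap K L '' ((algebraMap P K).range : Set K)) := by
    rintro _ ⟨b, rfl⟩
    have hb : b ∈ Algebra.adjoin P (t : Set B) := ht ▸ trivial
    induction hb using Algebra.adjoin_induction with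
    | mem w hw => exact Subring.subset_closure (Or.inl (Finset.mem_image_of_mem _ hw))
    | algebraMap r =>
      exact Subring.subset_closure (Or.inr ⟨_, ⟨r, rfl⟩, by
        rw [← IsScalarTower.algebraMap_apply, ← IsScalarTower.algebraMap_apply]⟩)
    | add x y _ _ hx hy => rw [map_add]; exact add_mem hx hy
    | mul x y _ _ hx hy => rw [map_mul]; exact mul_mem hx hy
  have htop : IntermediateField.adjoin K (s : Set L) = ⊤ := by
    have hmem : ∀ b : B, algebraMap B L b ∈ IntermediateField.adjoin K (s : Set L) := fun b => by
      refine (Subring.closure_le (t := (IntermediateField.adjoin K (s : Set L)).toSubalgebra.toSubring)).2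
        ?_ (hB ⟨b, rfl⟩)
      rintro w (hw | ⟨c, -, rfl⟩)
      · exact IntermediateField.subset_adjoin K _ hw
      · exact (IntermediateField.adjoin K (s : Set L)).algebraMap_mem c
    refine eq_top_iff.2 fun z _ => ?_
    obtain ⟨a, b, -, rfl⟩ := IsFractionRing.div_surjective (A := B) z
    exact div_mem (hmem a) (hmem b)
  obtain ⟨D, hD, hsepD, hle, hge⟩ := exists_sep_finset s K (algebraMap P K).range hfrac hsep htop
  have hDB : D ≤ B₀ := by
    refine hle.trans (Subring.closure_le.2 ?_)
    rintro w (hw | ⟨_, ⟨r, rfl⟩, rfl⟩)
    · obtain ⟨b, -, rfl⟩ := Finset.mem_image.1 hw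
      exact ⟨b, rfl⟩
    · exact ⟨algebraMap P B r, by rw [← IsScalarTower.algebraMap_apply, ← IsScalarTower.algebraMap_apply]⟩
  obtain ⟨δ, hδ, hδf⟩ : ∃ δ : Derivation ℤ L L, Bdd D δ ∧ δ (algebraMap B L f) ≠ 0 := by
    by_contra! h
    obtain ⟨y, hy⟩ := hsepD _ h
    exact hf y hy
  obtain ⟨g, ⟨b₀, rfl⟩, hg0, hgδ⟩ : Bdd B₀ δ := by
    refine bdd_of_le hD hDB s (hB.trans (Subring.closure_le.2 (Set.union_subset ?_ ?_))) (fun x hx => ?_) hδ
    · exact fun w hw => Subring.subset_closure (Or.inl hw)
    · exact fun w hw => Subring.subset_closure (Or.inr (hge hw))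
    · obtain ⟨b, -, rfl⟩ := Finset.mem_image.1 hx
      exact ⟨b, rfl⟩
  let F : B → B := fun b => (hgδ (algebraMap B L b) ⟨b, rfl⟩).choose
  have hF : ∀ b, algebraMap B L (F b) = algebraMap B L b₀ * δ (algebraMap B L b) := fun b =>
    (hgδ (algebraMap B L b) ⟨b, rfl⟩).choose_spec
  have hinjB := IsFractionRing.injective B L
  refine ⟨Derivation.mk' (AddMonoidHom.mk' F fun x y => hinjB (by simp [hF, mul_add])).toIntLinearMap
    fun x y => hinjB (by
      show algebraMap B L (F (x * y)) = algebraMap B L (x * F y + y * F x)
      simp [hF, Derivation.leibniz]; ring), fun h => ?_⟩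
  have := congrArg (algebraMap B L) (show F f = 0 from h)
  rw [hF, map_zero] at this
  exact mul_ne_zero hg0 hδf this

/-- Over a complete Noetherian local ring, a non-`p`-th power is moved by some derivation. -/
theorem exists_derivation {R B : Type u} [CommRing R] [IsLocalRing R] [IsNoetherianRing R]
    [IsAdicComplete (maximalIdeal R) R] [CommRing B] [IsDomain B] [Algebra R B] [Algebra.FiniteType R B]
    [CharP B p] {f : B} (hf : ∀ x : FractionRing B, x ^ p ≠ algebraMap B (FractionRing B) f) :
    ∃ D : Derivation ℤ B B, D f ≠ 0 := by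
  let I := RingHom.ker (algebraMap R B)
  haveI : I.IsPrime := RingHom.ker_isPrime _
  let A := R ⧸ I
  haveI : IsLocalRing A := IsLocalRing.of_surjective' (Ideal.Quotient.mk I) Ideal.Quotient.mk_surjective
  haveI := FiniteCompleteLib.isAdicComplete_maximalIdeal R A
  letI : Algebra A B := (RingHom.kerLift (algebraMap R B)).toAlgebra
  haveI : IsScalarTower R A B := IsScalarTower.of_algebraMap_eq fun _ => rfl
  haveI : Algebra.FiniteType A B := Algebra.FiniteType.of_restrictScalars_finiteType R A B
  have hinj : Function.Injective (algebraMap A B) := RingHom.kerLift_injective _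
  haveI : CharP A p := (RingHom.charP_iff (algebraMap A B) hinj p).2 inferInstance
  by_cases hfld : IsField A
  · haveI : CharP (FractionRing A) p := charP_of_injective_algebraMap (IsFractionRing.injective A _) p
    refine exists_derivation_of_base (P := A) hinj (FractionRing A) (fun x hx => ?_) (FractionRing B) hf
    by_contra! h
    obtain ⟨δ, hδ⟩ := FieldExtLib.exists_derivation_ne_zero p h
    refine hδ (hx δ ⟨1, one_mem _, one_ne_zero, fun r _ => ?_⟩)
    exact IsFractionRing.surjective_iff_isField.2 hfld _
  obtain ⟨d, hd⟩ := RegLocal.exists_nat_ringKrullDim (R := A)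
  have hd1 : 1 ≤ d := by
    by_contra h
    have h0 : ringKrullDim A = 0 := by rw [hd]; norm_num; omega
    haveI : Ring.KrullDimLE 0 A := Ring.krullDimLE_iff.2 h0.le
    exact hfld Ring.KrullDimLE.isField_of_isDomain
  letI : Algebra (ULift.{u} (ZMod p)) A :=
    ((ZMod.castHom (dvd_refl p) A).comp ULift.ringEquiv.toRingHom).toAlgebra
  haveI : Fact p.Prime := ‹_›
  obtain ⟨v, hv⟩ := PSStructLib.exists_coefficientField A (ULift.{u} (ZMod p))
  obtain ⟨a, ham, ha0⟩ : ∃ a ∈ maximalIdeal A, a ≠ 0 :=
    Submodule.exists_mem_ne_zero_of_ne_bot fun h => hfld (isField_iff_maximalIdeal_eq.2 h)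
  obtain ⟨y, -, hy, hrad⟩ := SopLib.exists_sop_extending hd ham (fun q hq haq => ha0 (by
    rw [show q = ⊥ by simpa [IsDomain.minimalPrimes_eq_singleton_bot] using hq] at haq
    simpa using haq)) 0
  haveI : IsLocalHom v := ⟨fun c hc => isUnit_iff_ne_zero.2 fun h0 => by
    rw [h0, map_zero] at hc; exact not_isUnit_zero hc⟩
  haveI : IsAdicComplete (maximalIdeal (ResidueField A)) (ResidueField A) := by
    rw [isField_iff_maximalIdeal_eq.1 (Field.toIsField _)]; infer_instance
  obtain ⟨g, hg, hginj, hdom⟩ := NagataCompleteLib.exists_normalization (a := 0) (m := d - 1 + 1)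
    (Λ := ResidueField A) v (fun c => ⟨c, hv c⟩) Fin.elim0 (by
      rw [isField_iff_maximalIdeal_eq.1 (Field.toIsField _), Set.range_eq_empty Fin.elim0, Ideal.span_empty])
    (Fin.snoc y a) (fun i => by
      refine Fin.lastCases ?_ (fun j => ?_) i
      · simpa using ham
      · simpa using hy j)
    (hrad.trans (Ideal.radical_mono (le_sup_of_le_right (Ideal.span_mono (by
      rintro _ (rfl | ⟨i, rfl⟩)
      · exact ⟨Fin.last _, by simp⟩
      · exact ⟨i.castSucc, by simp⟩)))))
    hd (by omega)
  let P := MvPowerSeries (Fin (d - 1 + 1)) (ResidueField A)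
  letI : Algebra P A := g.toAlgebra
  haveI : Module.Finite P A := hg
  letI : Algebra P B := ((algebraMap A B).comp g).toAlgebra
  haveI : IsScalarTower P A B := IsScalarTower.of_algebraMap_eq fun _ => rfl
  haveI : Algebra.FiniteType P B := Algebra.FiniteType.trans (S := A) inferInstance inferInstance
  have hinjP : Function.Injective (algebraMap P B) := hinj.comp hginj
  haveI : CharP P p := (RingHom.charP_iff g hginj p).2 inferInstance
  haveI : CharP (ResidueField A) p := (RingHom.charP_iff v v.injective p).2 inferInstance
  haveI : CharP (FractionRing P) p := charP_of_injective_algebraMap (IsFractionRing.injective P _) p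
  exact exists_derivation_of_base hinjP (FractionRing P)
    (good_powerSeries (ResidueField A) p _ (FractionRing P)).2.2.1 (FractionRing B) hf

end Groth.Agent.DerExistLib
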