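import Mathlib
import Groth.Agent.J2CompleteLib.Extend

/-! Separation by bounded derivations passes to finitely generated field extensions. -/

set_option autoImplicit false
set_option backward.isDefEq.respectTransparency false

noncomputable section

namespace Groth.Agent.DerExistLib

universe u

open Groth.Agent.J2CompleteLib Polynomial
open scoped IntermediateField

variable {K L : Type u} [Field K] [Field L] [Algebra K L] {D : Subring K}

/-- Fractions of the adjoined subring exhaust the generated field. -/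
theorem isFrac_adjoinElt' (hD : IsFrac D) {θ : L} (hθ : K⟮θ⟯ = ⊤) : IsFrac (adjoinElt D θ) := by
  intro z
  have hz : z ∈ K⟮θ⟯ := hθ ▸ trivial
  induction hz using IntermediateField.adjoin_induction with
  | mem w hw =>
    obtain rfl := Set.mem_singleton_iff.1 hw
    exact ⟨w, mem_adjoinElt D w, 1, one_mem _, one_ne_zero, mul_one w⟩
  | algebraMap k =>
    obtain ⟨a, ha, b, hb, hb0, hab⟩ := hD k
    exact ⟨_, map_mem_adjoinElt ha θ, _, map_mem_adjoinElt hb θ, (_root_.map_ne_zero _).2 hb0,
      by rw [← map_mul, hab]⟩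
  | add x y _ _ hx hy =>
    obtain ⟨a, ha, b, hb, hb0, hab⟩ := hx
    obtain ⟨c, hc, d, hd, hd0, hcd⟩ := hy
    exact ⟨a * d + c * b, add_mem (mul_mem ha hd) (mul_mem hc hb), b * d, mul_mem hb hd,
      mul_ne_zero hb0 hd0, by rw [← hab, ← hcd]; ring⟩
  | inv x _ hx =>
    obtain ⟨a, ha, b, hb, hb0, hab⟩ := hx
    by_cases hx0 : x = 0
    · exact ⟨0, zero_mem _, 1, one_mem _, one_ne_zero, by simp [hx0]⟩
    · exact ⟨b, hb, a, ha, by rw [← hab]; exact mul_ne_zero hx0 hb0, by
        rw [← hab, inv_mul_cancel_left₀ hx0]⟩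
  | mul x y _ _ hx hy =>
    obtain ⟨a, ha, b, hb, hb0, hab⟩ := hx
    obtain ⟨c, hc, d, hd, hd0, hcd⟩ := hy
    exact ⟨a * c, mul_mem ha hc, b * d, mul_mem hb hd, mul_ne_zero hb0 hd0, by
      rw [← hab, ← hcd]; ring⟩

/-- A derivation is bounded on a finitely generated extension with the same fraction field. -/
theorem bdd_of_le {K : Type u} [Field K] {D B : Subring K} (hD : IsFrac D) (hDB : D ≤ B) (s : Finset K)
    (hgen : B ≤ Subring.closure ((s : Set K) ∪ D)) (hs : ∀ x ∈ s, x ∈ B) {δ : Derivation ℤ K K}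
    (hδ : Bdd D δ) : Bdd B δ := by
  classical
  obtain ⟨g, hg, hg0, hgδ⟩ := hδ
  choose a ha b hb hb0 hab using fun x : s => hD (δ x)
  refine ⟨g * ∏ x, b x, mul_mem (hDB hg) (prod_mem fun x _ => hDB (hb x)),
    mul_ne_zero hg0 (Finset.prod_ne_zero_iff.2 fun x _ => hb0 x), fun r hr => ?_⟩
  have hr' := hgen hr
  clear hr
  suffices r ∈ B ∧ g * (∏ x, b x) * δ r ∈ B from this.2
  induction hr' using Subring.closure_induction with
  | mem w hw =>
    rcases hw with hw | hw
    · refine ⟨hs w hw, ?_⟩
      rw [← Finset.prod_erase_mul _ _ (Finset.mem_univ (⟨w, hw⟩ : s)),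
        show g * ((∏ x ∈ Finset.univ.erase ⟨w, hw⟩, b x) * b ⟨w, hw⟩) * δ w =
          g * (∏ x ∈ Finset.univ.erase ⟨w, hw⟩, b x) * (δ (⟨w, hw⟩ : s) * b ⟨w, hw⟩) by ring, hab]
      exact mul_mem (mul_mem (hDB hg) (prod_mem fun x _ => hDB (hb x))) (hDB (ha _))
    · refine ⟨hDB hw, ?_⟩
      rw [mul_right_comm]
      exact mul_mem (hDB (hgδ w hw)) (prod_mem fun x _ => hDB (hb x))
  | zero => simp [zero_mem]
  | one => simp [zero_mem, one_mem]
  | add x y _ _ hx hy => exact ⟨add_mem hx.1 hy.1, by rw [map_add, mul_add]; exact add_mem hx.2 hy.2⟩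
  | neg x _ hx => exact ⟨neg_mem hx.1, by rw [map_neg, mul_neg]; exact neg_mem hx.2⟩
  | mul x y _ _ hx hy =>
    refine ⟨mul_mem hx.1 hy.1, ?_⟩
    rw [Derivation.leibniz, smul_eq_mul, smul_eq_mul, mul_add, mul_left_comm, mul_left_comm _ y]
    exact add_mem (mul_mem hx.1 hy.2) (mul_mem hy.1 hx.2)

theorem bdd_adjoinElt' (hD : IsFrac D) {θ : L} (hθ : K⟮θ⟯ = ⊤) {δ : Derivation ℤ K K} (hδ : Bdd D δ)
    {E : Derivation ℤ L L} (hE : ∀ c, E (algebraMap K L c) = algebraMap K L (δ c)) :
    Bdd (adjoinElt D θ) E := by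
  obtain ⟨g, hg, hg0, hgδ⟩ := hδ
  obtain ⟨u, hu, b, hb, hb0, hub⟩ := isFrac_adjoinElt' hD hθ (E θ)
  refine ⟨algebraMap K L g * b, mul_mem (map_mem_adjoinElt hg θ) hb,
    mul_ne_zero ((_root_.map_ne_zero _).2 hg0) hb0, fun r hr => ?_⟩
  induction hr using Subring.closure_induction with
  | mem w hw =>
    rcases hw with rfl | ⟨c, hc, rfl⟩
    · rw [show algebraMap K L g * b * E w = algebraMap K L g * (E w * b) by ring, hub]
      exact mul_mem (map_mem_adjoinElt hg w) hu
    · rw [hE, show algebraMap K L g * b * algebraMap K L (δ c) = b * algebraMap K L (g * δ c) by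
        rw [map_mul]; ring]
      exact mul_mem hb (map_mem_adjoinElt (hgδ c hc) θ)
  | zero => simp [zero_mem]
  | one => simp [zero_mem]
  | add x y _ _ hx hy => rw [map_add, mul_add]; exact add_mem hx hy
  | neg x _ hx => rw [map_neg, mul_neg]; exact neg_mem hx
  | mul x y hx' hy' hx hy =>
    rw [Derivation.leibniz, smul_eq_mul, smul_eq_mul, mul_add, mul_left_comm, mul_left_comm _ y]
    exact add_mem (mul_mem hx' hy) (mul_mem hy' hx)

variable (p : ℕ) [Fact p.Prime] [CharP K p]

/-- Separation passes to purely transcendental extensions. -/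
theorem sep_transcendental (hD : IsFrac D) (hsep : Sep p D) {θ : L} (hθ : K⟮θ⟯ = ⊤)
    (htr : Transcendental K θ) : Sep p (adjoinElt D θ) := by
  haveI : CharP L p := charP_of_injective_algebraMap (algebraMap K L).injective p
  have hinj := transcendental_iff_injective.1 htr
  letI : Algebra K[X] L := (aeval θ).toRingHom.toAlgebra
  haveI : IsScalarTower K K[X] L := IsScalarTower.of_algebraMap_eq fun c => (aeval_C θ c).symm
  have haev : ∀ q : K[X], algebraMap K[X] L q = aeval θ q := fun q => rfl
  haveI : FaithfulSMul K[X] L := (faithfulSMul_iff_algebraMap_injective _ _).2 hinj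
  haveI : IsFractionRing K[X] L := IsFractionRing.of_field _ _ fun z => by
    obtain ⟨r, s, h⟩ := IntermediateField.mem_adjoin_simple_iff K z |>.1 (hθ ▸ trivial : z ∈ K⟮θ⟯)
    exact ⟨r, s, h⟩
  -- derivations with prescribed values
  have hext : ∀ (δ : Derivation ℤ K K) (y : L), ∃ E : Derivation ℤ L L,
      (∀ c, E (algebraMap K L c) = algebraMap K L (δ c)) ∧ E θ = y ∧
      ∀ q : K[X], E (aeval θ q) = (eval₂RingHom (defHom (pushDer δ : Derivation ℤ K L))
        (TrivSqZeroExt.inl θ + TrivSqZeroExt.inr y) q).snd := by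
    intro δ y
    let e : K[X] →+* TrivSqZeroExt L L :=
      eval₂RingHom (defHom (pushDer δ : Derivation ℤ K L)) (TrivSqZeroExt.inl θ + TrivSqZeroExt.inr y)
    have hfst : ∀ q, (e q).fst = aeval θ q := fun q => by
      have : (TrivSqZeroExt.fstHom L L L).toRingHom.comp e = (aeval θ).toRingHom := by
        refine Polynomial.ringHom_ext (fun c => ?_) ?_
        · simp [e, defHom]
        · simp [e]
      exact DFunLike.congr_fun this q
    have hu : ∀ q : nonZeroDivisors K[X], IsUnit (e q) := fun q => by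
      rw [TrivSqZeroExt.isUnit_iff_isUnit_fst, hfst, isUnit_iff_ne_zero]
      exact (map_ne_zero_iff _ hinj).2 (nonZeroDivisors.coe_ne_zero q)
    let ψ : L →+* TrivSqZeroExt L L := IsLocalization.lift hu
    have hψq : ∀ q, ψ (aeval θ q) = e q := fun q => IsLocalization.lift_eq hu q
    have hψ : ∀ z, (ψ z).fst = z := fun z => by
      have : (TrivSqZeroExt.fstHom L L L).toRingHom.comp ψ = RingHom.id L :=
        IsLocalization.ringHom_ext (nonZeroDivisors K[X]) (RingHom.ext fun q => by
          show (ψ (aeval θ q)).fst = aeval θ q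
          rw [hψq, hfst])
      exact DFunLike.congr_fun this z
    obtain ⟨E, hE, hEψ⟩ := exists_derivation_of_section (pushDer δ : Derivation ℤ K L) ψ hψ fun c => by
      rw [← aeval_C θ c, hψq]; simp [e]
    refine ⟨E, fun c => (hE c).trans (pushDer_apply δ c), ?_, fun q => by rw [hEψ, hψq]⟩
    rw [hEψ, ← aeval_X (R := K) θ, hψq]
    simp [e]
  intro x hx
  obtain ⟨q, r, hr, rfl⟩ := IsFractionRing.div_surjective (A := K[X]) x
  have hp : p.Prime := Fact.out
  have hr0 : aeval θ r ≠ 0 := (map_ne_zero_iff _ hinj).2 (nonZeroDivisors.ne_zero hr)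
  rw [haev, haev] at hx ⊢
  set f := q * r ^ (p - 1) with hf
  have hpow : ∀ (E : Derivation ℤ L L) (w : L), E (w ^ p) = 0 := fun E w => by
    rw [Derivation.leibniz_pow, ← Nat.cast_smul_eq_nsmul L, CharP.cast_eq_zero, zero_smul]
  have hfx : aeval θ f = aeval θ q / aeval θ r * aeval θ r ^ p := by
    rw [hf, map_mul, map_pow, show aeval θ r ^ p = aeval θ r ^ (p - 1) * aeval θ r by
      rw [← pow_succ, Nat.sub_add_cancel hp.one_le]]
    field_simp
  have hEf : ∀ E : Derivation ℤ L L, Bdd (adjoinElt D θ) E → E (aeval θ f) = 0 := fun E hE => by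
    rw [hfx, Derivation.leibniz, hpow, hx E hE, smul_zero, smul_zero, add_zero]
  -- the derivative vanishes
  have hder : derivative f = 0 := by
    obtain ⟨E, hE, hEθ, -⟩ := hext 0 1
    have h := hEf E (bdd_adjoinElt' hD hθ (δ := 0) ⟨1, one_mem D, one_ne_zero, fun r _ => by simp [zero_mem]⟩ hE)
    have h' : ∀ g : K[X], E (aeval θ g) = aeval θ (derivative g) := fun g => by
      induction g using Polynomial.induction_on' with
      | add a b ha hb => simp only [map_add, ha, hb]
      | monomial n c =>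
        rw [aeval_monomial, derivative_monomial, aeval_monomial, Derivation.leibniz, hE,
          Derivation.leibniz_pow, hEθ]
        simp [mul_assoc]
    exact hinj (by rw [map_zero, ← h', h])
  haveI : ExpChar K p := ExpChar.prime hp
  obtain ⟨g, hg⟩ : ∃ g, expand K p g = f := ⟨contract p f, expand_contract p hder hp.ne_zero⟩
  have hroot : ∀ n, ∃ w, w ^ p = g.coeff n := fun n => hsep _ fun δ hδ => by
    obtain ⟨E, hE, hEθ, -⟩ := hext δ 0
    have h := hEf E (bdd_adjoinElt' hD hθ hδ hE)
    let gδ : K[X] := ∑ i ∈ f.support, monomial i (δ (f.coeff i))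
    have h2 : aeval θ gδ = 0 := by
      rw [← h]
      conv_rhs => rw [← sum_monomial_eq f]
      simp only [gδ, map_sum, Polynomial.sum, aeval_monomial]
      refine Finset.sum_congr rfl fun i _ => ?_
      rw [Derivation.leibniz, hE, Derivation.leibniz_pow, hEθ]
      simp [mul_comm]
    have h3 : gδ = 0 := hinj (by rw [h2, map_zero])
    have h4 : δ (f.coeff (n * p)) = 0 := by
      by_cases hn : n * p ∈ f.support
      · have := congrArg (fun P => coeff P (n * p)) h3
        simpa [gδ, finsetSum_coeff, coeff_monomial, hn] using this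
      · rw [Polynomial.notMem_support_iff.1 hn, map_zero]
    rwa [← hg, coeff_expand_mul hp.pos] at h4
  choose w hw using hroot
  let h : K[X] := ∑ i ∈ g.support, monomial i (w i)
  have hh : h ^ p = f := by
    rw [← map_frobenius_expand (R := K) p h, map_expand, ← hg]
    congr 1
    ext i
    by_cases hi : i ∈ g.support
    · simp [h, finsetSum_coeff, coeff_monomial, hi, frobenius_def, hw]
    · simp [h, finsetSum_coeff, coeff_monomial, hi, frobenius_def, Polynomial.notMem_support_iff.1 hi,
        hp.ne_zero]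
  refine ⟨aeval θ h / aeval θ r, ?_⟩
  rw [div_pow, ← map_pow, hh, hfx]
  field_simp

end Groth.Agent.DerExistLib
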